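import Cfsg.Agent.H406.TE.M4bc

/-!
# S5261, part E: `p = 2`, `|E : Q1| = 2` (helper406)

* `stE2c`.
-/

set_option autoImplicit false
set_option linter.unusedSectionVars false

namespace Cfsg.Agent.H406.TE

open Cfsg Cfsg.FusionSystem Cfsg.Agent.H756.PU Cfsg.Agent.H802.TE
open Cfsg.Agent.H765.D3 Cfsg.Agent.H765.D3.Sy
open Cfsg.Agent.Hex.Defs (sh cr nm tr)
open scoped commutatorElement

universe u

section Comm

variable {F K : Type u} [Field F] [Field K] [Algebra F K] {φ : K ≃ₐ[F] K} [Cub φ]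

theorem u1_x1 (t : K) : (u1 φ t).x1 = t := rfl
theorem u1_x6 (t : K) : (u1 φ t).x6 = 0 := rfl
theorem u1_x5 (t : K) : (u1 φ t).x5 = 0 := rfl
theorem u1_x3 (t : K) : (u1 φ t).x3 = 0 := rfl
theorem u1_x2 (t : K) : (u1 φ t).x2 = 0 := rfl

theorem comm_u1_x3 {v : Sy φ} (hv : v.x1 = 0) (t : K) : (⁅v, u1 φ t⁆).x3 = -(cr φ t v.x5 + v.x6 • sh φ t) := by
  have h := congrArg Sy.x3 (comm_mul v (u1 φ t))
  rw [mul_x3, mul_x3, mul_x3, comm_x1, hv] at h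
  simp only [u1_x1, u1_x6, u1_x5, u1_x3, sh_zero, cr_zero_left, smul_zero, add_zero, zero_add] at h
  linear_combination -h

theorem comm_u1_x2 {v : Sy φ} (hv : v.x1 = 0) (t : K) :
    (⁅v, u1 φ t⁆).x2 = -(tr φ (t * v.x3) + tr φ (sh φ t * v.x5) + v.x6 * nm φ t) := by
  have h := congrArg Sy.x2 (comm_mul v (u1 φ t))
  rw [mul_x2, mul_x2, mul_x2, comm_x1, hv] at h
  simp only [u1_x1, u1_x6, u1_x5, u1_x3, u1_x2, sh_zero, nm_zero, zero_mul, mul_zero, tr_zero, add_zero, zero_add] at h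
  linear_combination -h

/-- `[v, [v, u1 t]]` for `v ∈ Q1`, characteristic two -/
theorem comm_comm_u1 (h2 : (2 : K) = 0) {v : Sy φ} (hv : v.x1 = 0) (t : K) :
    ⁅v, ⁅v, u1 φ t⁆⁆ = u4 φ (v.x6 ^ 2 * nm φ t) := by
  rw [comm_Q1 hv (comm_x1 _ _)]
  congr 1
  unfold form
  rw [comm_u1_x3 hv, comm_u1_x2 hv, comm_x6, comm_x5]
  simp only [u1_x1, u1_x6, zero_smul, zero_sub, hv]
  apply (algebraMap F K).injective
  simp only [map_add, map_sub, map_mul, map_neg, map_pow, coe_tr, coe_nm, sh, cr, phi3, phi_coe, Algebra.smul_def, map_zero]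
  linear_combination (-(algebraMap F K v.x6 * t * v.x3) - algebraMap F K v.x6 * φ t * φ v.x3 -
    algebraMap F K v.x6 * φ (φ t) * φ (φ v.x3) - algebraMap F K v.x6 ^ 2 * t * φ t * φ (φ t) +
    t * φ v.x5 * φ (φ v.x5) + φ t * v.x5 * φ (φ v.x5) + φ (φ t) * v.x5 * φ v.x5) * h2

/-- `form v w = - tr (v.x5 w.x3)` for `v ∈ Z4`, `w ∈ Z3` -/
theorem form_Z4_Z3 {v w : Sy φ} (hv : v ∈ Z4 φ) (hw : w ∈ Z3 φ) : form v w = -tr φ (v.x5 * w.x3) := by
  rw [form, hv.2, hw.2.1, hw.2.2, zero_mul, mul_zero, mul_zero, tr_zero]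
  ring

theorem comm_x3_sw {v g : Sy φ} (hv : v ∈ Z4 φ) : (⁅v, g⁆).x3 = -cr φ g.x1 v.x5 := by
  have h1 : ⁅v, g⁆ = (⁅g, v⁆)⁻¹ := (commutatorElement_inv _ _).symm
  rw [h1, inv_x3, comm_x1, comm_x6, comm_x3 hv, cr_zero_left, zero_smul]
  ring

/-- `[v, [z, g]] = u4 (tr (v.x5 * (g.x1 ⋆ z.x5)))` for `v, z ∈ Z4` -/
theorem comm_Z4_comm {v z g : Sy φ} (hv : v ∈ Z4 φ) (hz : z ∈ Z4 φ) :
    ⁅v, ⁅z, g⁆⁆ = u4 φ (tr φ (v.x5 * cr φ g.x1 z.x5)) := by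
  have hw : ⁅z, g⁆ ∈ Z3 φ := comm_sw (comm_mem_Z3 hz)
  rw [comm_Q1 hv.1 hw.1, form_Z4_Z3 hv hw, comm_x3_sw hz, mul_neg, tr_neg, neg_neg]

theorem u4_eq_one {w : F} (h : u4 φ w = 1) : w = 0 := congrArg Sy.x4 h

end Comm

/-- **(E2c)** -/
theorem stE2c (hphi : StPhi.{u}) (hch : StCh.{u}) : StE2c.{u} := by
  intro F K _ _ _ _ _ φ _ _ E Γ h t ht hE
  have : CharP F 2 := charP_F (K := K)
  have h2 : (2 : K) = 0 := by exact_mod_cast CharP.cast_eq_zero K 2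
  have hq : Q1 φ ≤ E := fun x hx => (hE x).2 (Or.inl hx)
  have h4 : Z4 φ ≤ E := Z4_le_Q1.trans hq
  have h3 : Z3 φ ≤ E := Z3_le_Z4.trans h4
  have ht1 : u1 φ t ∈ E := (hE _).2 (Or.inr rfl)
  obtain ⟨P1, P2, P3, P4, P5, P6⟩ := hphi E 2 h.pp (Finite.of_injective _ E.subtype_injective)
    (h.pgr.of_injective (Subgroup.inclusion le_top) (Subgroup.inclusion_injective _))
  -- a regular element
  have hreg : u1 φ t * u6 φ 1 ∈ E := mul_mem ht1 (hq (u6_mem _))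
  have hr1 : (u1 φ t * u6 φ 1).x1 = t := by rw [mul_x1]; exact add_zero _
  have hr6 : (u1 φ t * u6 φ 1).x6 = 1 := by rw [mul_x6]; exact zero_add _
  have z2 : Z2 φ ≤ Phi E := Z2_le_of P2 h4 hreg (by rw [hr1]; exact ht) (by rw [hr6]; exact one_ne_zero)
  have hnt : nm φ t ≠ 0 := fun e => ht ((nm_eq_zero φ).1 e)
  -- `Z1`
  have i1 : Inv Γ (Z1 φ) := by
    refine inv_of_char inv_bot (Z1_le_Z2.trans (Z2_le_Z3.trans h3)) fun z hz => ⟨fun hz1 e _ => ?_, fun H => ?_⟩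
    · exact Subgroup.mem_bot.2 (bot_sw (comm_Z1 hz1))
    · rw [← centralizer_Q1, mem_centralizer]
      exact fun y hy => Subgroup.mem_bot.1 (H y (hq hy))
  -- `Q1`
  obtain ⟨c, hc⟩ : ∃ c : K, cr φ t c ≠ 0 := by
    by_contra hcon
    push Not at hcon
    exact ht (cr_nondeg' φ hcon)
  have iq : Inv Γ (Q1 φ) := by
    refine ⟨hq, fun γ hγ e he => ?_⟩
    by_contra hne
    -- `b = γ e` is not in `Q1`
    have hb1 : ((γ e : E) : Sy φ).x1 = t := ((hE _).1 (γ e).2).resolve_left hne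
    -- the elements of `Q1` are of the form `γ y` or `γ y` times an element of ...
    have key : ∀ v : E, (v : Sy φ) ∈ Q1 φ → (γ⁻¹ v : E) ∈ (Q1 φ).subgroupOf E → (⁅((γ e : E) : Sy φ), (v : Sy φ)⁆) ∈ Z1 φ := by
      intro v _ hv'
      have h5 : ⁅(e : Sy φ), ((γ⁻¹ v : E) : Sy φ)⁆ ∈ Z1 φ := by
        rw [comm_Q1 he (Subgroup.mem_subgroupOf.1 hv')]
        exact u4_mem _
      have h6 := i1.2 γ hγ ⁅e, γ⁻¹ v⁆ h5
      rw [map_commutatorElement, MulAut.apply_inv_self] at h6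
      exact h6
    -- index two: one of three
    have three : ∀ v w : E, v ∈ (Q1 φ).subgroupOf E ∨ w ∈ (Q1 φ).subgroupOf E ∨ v⁻¹ * w ∈ (Q1 φ).subgroupOf E := by
      intro v w
      rcases (hE _).1 v.2 with h5 | h5
      · exact Or.inl h5
      rcases (hE _).1 w.2 with h6 | h6
      · exact Or.inr (Or.inl h6)
      · refine Or.inr (Or.inr ?_)
        show ((v : Sy φ)⁻¹ * (w : Sy φ)).x1 = 0
        rw [mul_x1, inv_x1, h5, h6, neg_add_cancel]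
    let v : E := ⟨u6 φ 1, hq (u6_mem _)⟩
    let w : E := ⟨u5 φ c, h4 (u5_mem _)⟩
    have n1 : ¬ ⁅((γ e : E) : Sy φ), (v : Sy φ)⁆ ∈ Z1 φ := by
      intro h5
      have h6 := h5.2.2.1
      rw [comm_x5, hb1] at h6
      have h7 : (1 : F) • t - ((γ e : E) : Sy φ).x6 • (0 : K) = 0 := h6
      rw [one_smul, smul_zero, sub_zero] at h7
      exact ht h7
    have n2 : ¬ ⁅((γ e : E) : Sy φ), (w : Sy φ)⁆ ∈ Z1 φ := by
      intro h5
      have h6 := h5.2.2.2.1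
      rw [comm_x3 (u5_mem _), hb1] at h6
      exact hc h6
    have n3 : ¬ ⁅((γ e : E) : Sy φ), ((v⁻¹ * w : E) : Sy φ)⁆ ∈ Z1 φ := by
      intro h5
      have h6 := h5.2.2.1
      rw [comm_x5, hb1] at h6
      have h7 : ((v⁻¹ * w : E) : Sy φ).x6 = -1 := by
        show ((u6 φ 1)⁻¹ * u5 φ c).x6 = -1
        rw [mul_x6, inv_x6]; exact add_zero _
      have h8 : ((v⁻¹ * w : E) : Sy φ).x1 = 0 := by
        show ((u6 φ 1)⁻¹ * u5 φ c).x1 = 0
        rw [mul_x1, inv_x1]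
        show -(0 : K) + 0 = 0
        ring
      rw [h7, h8, smul_zero, sub_zero, neg_smul, one_smul, neg_eq_zero] at h6
      exact ht h6
    have hq3 : ((v⁻¹ * w : E) : Sy φ) ∈ Q1 φ := mul_mem (inv_mem (u6_mem _)) (Z4_le_Q1 (u5_mem _))
    rcases three (γ⁻¹ v) (γ⁻¹ w) with h5 | h5 | h5
    · exact n1 (key v (u6_mem _) h5)
    · exact n2 (key w (Z4_le_Q1 (u5_mem _)) h5)
    · rw [← map_inv, ← map_mul] at h5
      exact n3 (key _ hq3 h5)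
  -- `Z4`
  have i4 : Inv Γ (Z4 φ) := by
    have hch4 : ∀ v : Sy φ, v ∈ Z4 φ ↔ v ∈ Q1 φ ∧ ∀ g ∈ E, ⁅v, ⁅v, g⁆⁆ = 1 := by
      intro v
      constructor
      · intro hv
        refine ⟨Z4_le_Q1 hv, fun g _ => ?_⟩
        rw [comm_Z4_comm hv hv]
        have h5 : tr φ (v.x5 * cr φ g.x1 v.x5) = 0 := by
          rw [cr_comm, ← tr_cr, cr_self, h2, zero_mul, zero_mul, tr_zero]
        rw [h5]; rfl
      · rintro ⟨hv, H⟩
        refine ⟨hv, ?_⟩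
        have h5 := H _ ht1
        rw [comm_comm_u1 h2 hv] at h5
        have h6 := u4_eq_one h5
        exact pow_eq_zero_iff two_ne_zero |>.1 ((mul_eq_zero.1 h6).resolve_right hnt)
    refine ⟨h4, fun γ hγ v hv => (hch4 _).2 ⟨iq.2 γ hγ v (Z4_le_Q1 hv), fun g hg => ?_⟩⟩
    have h5 := ((hch4 _).1 hv).2 ((γ⁻¹ ⟨g, hg⟩ : E) : Sy φ) (γ⁻¹ ⟨g, hg⟩ : E).2
    have h6 : ⁅v, ⁅v, γ⁻¹ ⟨g, hg⟩⁆⁆ = (1 : E) := Subtype.ext h5
    have h7 := congrArg γ h6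
    rw [map_commutatorElement, map_commutatorElement, MulAut.apply_inv_self, map_one] at h7
    exact congrArg Subtype.val h7
  -- `X`
  let X : Subgroup (Sy φ) :=
    { carrier := {x | x ∈ Z4 φ ∧ ∃ l : F, x.x5 = l • t}
      one_mem' := ⟨one_mem _, 0, by rw [zero_smul]; rfl⟩
      mul_mem' := by
        rintro x y ⟨hx, l, hl⟩ ⟨hy, m, hm⟩
        refine ⟨mul_mem hx hy, l + m, ?_⟩
        rw [mul_x5, hy.2, hl, hm, zero_smul, add_zero, add_smul]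
      inv_mem' := by
        rintro x ⟨hx, l, hl⟩
        refine ⟨inv_mem hx, -l, ?_⟩
        rw [inv_x5, hx.2, hl, zero_smul, add_zero, neg_smul] }
  have hX4 : X ≤ Z4 φ := fun x hx => hx.1
  have iX : Inv Γ X := by
    have hchX : ∀ x ∈ Z4 φ, (x ∈ X ↔ ∀ z ∈ Z4 φ, ∀ g ∈ E, ⁅x, ⁅z, g⁆⁆ = 1) := by
      intro x hx
      constructor
      · rintro ⟨-, l, hl⟩ z hz g hg
        rw [comm_Z4_comm hx hz, hl]
        have h5 : tr φ (l • t * cr φ g.x1 z.x5) = 0 := by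
          rcases (hE g).1 hg with h6 | h6
          · rw [h6, cr_zero_left, mul_zero, tr_zero]
          · rw [h6, smul_mul_assoc, tr_smul, ← tr_cr, cr_self, h2, zero_mul, zero_mul, tr_zero, mul_zero]
        rw [h5]; rfl
      · intro H
        refine ⟨hx, cr_line (φ := φ) ht (tr_nondeg φ fun c => ?_)⟩
        have h5 := H _ (u5_mem c) _ ht1
        rw [comm_Z4_comm hx (u5_mem c)] at h5
        have h6 : tr φ (x.x5 * cr φ t c) = 0 := u4_eq_one h5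
        rw [cr_comm φ t x.x5, tr_cr]
        exact h6
    refine ⟨hX4.trans h4, fun γ hγ x hx => (hchX _ (i4.2 γ hγ x (hX4 hx))).2 fun z hz g hg => ?_⟩
    have hz' : ((γ⁻¹ ⟨z, h4 hz⟩ : E) : Sy φ) ∈ Z4 φ := i4.2 γ⁻¹ (inv_mem hγ) ⟨z, h4 hz⟩ hz
    have h5 := (hchX _ (hX4 hx)).1 hx _ hz' ((γ⁻¹ ⟨g, hg⟩ : E) : Sy φ) (γ⁻¹ ⟨g, hg⟩ : E).2
    have h6 : ⁅x, ⁅γ⁻¹ ⟨z, h4 hz⟩, γ⁻¹ ⟨g, hg⟩⁆⁆ = (1 : E) := Subtype.ext h5
    have h7 := congrArg γ h6
    rw [map_commutatorElement, map_commutatorElement, MulAut.apply_inv_self, MulAut.apply_inv_self, map_one] at h7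
    exact congrArg Subtype.val h7
  have h3X : Z3 φ ≤ X := fun z hz => ⟨Z3_le_Z4 hz, 0, by rw [zero_smul]; exact hz.2.2⟩
  have hPX : Phi E ≤ X := by
    have hx5 : ∀ x ∈ E, ∀ f : F, ∃ l : F, f • x.x1 = l • t := by
      intro x hx f
      rcases (hE x).1 hx with h5 | h5
      · exact ⟨0, by rw [h5, smul_zero, zero_smul]⟩
      · exact ⟨f, by rw [h5]⟩
    refine P4 X (hX4.trans h4) (fun a ha b hb => ?_) fun x hx => ?_
    · show ⁅a, b⁆ ∈ X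
      obtain ⟨l, hl⟩ := hx5 a ha b.x6
      obtain ⟨m, hm⟩ := hx5 b hb a.x6
      exact ⟨comm_mem_Z4 a b, l - m, by rw [comm_x5, hl, hm, sub_smul]⟩
    · obtain ⟨l, hl⟩ := hx5 x hx x.x6
      have h22 : (2 : F) = 0 := by exact_mod_cast CharP.cast_eq_zero F 2
      refine ⟨⟨?_, ?_⟩, l, ?_⟩
      · rw [_root_.sq, mul_x1, ← two_mul, h2, zero_mul]
      · rw [_root_.sq, mul_x6, ← two_mul, h22, zero_mul]
      · rw [_root_.sq, mul_x5, ← two_mul, h2, zero_mul, zero_add, hl]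
  -- the chain
  refine ne_top h (top_le_iff.1 ?_)
  let M : ℕ → Subgroup (Sy φ) := fun i => match i with
    | 0 => Phi E
    | 1 => X
    | 2 => Z4 φ
    | 3 => Q1 φ
    | _ => E
  refine hch h 4 M le_rfl rfl ?_ ?_ ⊤ le_top ?_
  · intro i hi
    interval_cases i
    · exact P5 Γ
    · exact iX
    · exact i4
    · exact iq
    · exact ⟨le_rfl, fun γ _ e _ => (γ e).2⟩
  · intro i hi
    interval_cases i
    · exact hPX
    · exact hX4
    · exact Z4_le_Q1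
    · exact hq
  · intro i hi
    interval_cases i
    · rintro a _ x ⟨hx, l, hl⟩
      show ⁅a, x⁆ ∈ Phi E
      refine mem_of_sub (u3_cr_mem P2 h4 ht1 z2 (l • a.x1)) (z2 (sub_Z2 (comm_mem_Z3 hx) (u3_mem _) ?_))
      rw [comm_x3 hx, hl]
      show cr φ a.x1 (l • t) = cr φ t (l • a.x1)
      rw [cr_smul_right, cr_smul_right, cr_comm]
    · exact fun a _ m hm => h3X (comm_mem_Z3 hm)
    · exact fun a _ m hm => comm_mem_Z4 a m
    · exact fun a _ m hm => Z4_le_Q1 (comm_mem_Z4 a m)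

end Cfsg.Agent.H406.TE
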