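import Cfsg.Agent.H802.TE.Defs

/-!
# S5261, part E: `Z4 ≤ E`, mixed (helper406)

* `card_K` : `|K| = |F| ^ 3`;
* `stM4a`, `stM4b`, `stM4c`.
-/

set_option autoImplicit false
set_option linter.unusedSectionVars false

namespace Cfsg.Agent.H406.TE

open Cfsg Cfsg.FusionSystem Cfsg.Agent.H756.PU Cfsg.Agent.H802.TE
open Cfsg.Agent.H765.D3 Cfsg.Agent.H765.D3.Sy
open Cfsg.Agent.Hex.Defs (sh cr nm tr)
open scoped commutatorElement

universe u

/-! ### The cubic extension -/

section Field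

variable {F K : Type*} [Field F] [Field K] [Algebra F K] (φ : K ≃ₐ[F] K) [Cub φ]

theorem phi_pow3 : φ ^ 3 = 1 := by
  ext t
  exact phi3 φ t

theorem fixed_zpowers {t : K} (h : φ t = t) : ∃ s : F, algebraMap F K s = t := exists_coe φ h

include φ in
/-- `|K| = |F| ^ 3` -/
theorem finrank_K [Finite K] : Module.finrank F K = 3 := by
  have : Finite F := Finite.of_injective _ (algebraMap F K).injective
  have h1 : IntermediateField.fixedField (Subgroup.zpowers φ) = ⊥ := by
    rw [eq_bot_iff]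
    intro t ht
    obtain ⟨s, hs⟩ := exists_coe φ (ht ⟨φ, Subgroup.mem_zpowers φ⟩)
    rw [IntermediateField.mem_bot]
    exact ⟨s, hs⟩
  have h2 : Subgroup.zpowers φ = ⊤ := by
    rw [← IntermediateField.fixingSubgroup_fixedField (Subgroup.zpowers φ), h1,
      IntermediateField.fixingSubgroup_bot]
  have h3 : orderOf φ = 3 := by
    refine orderOf_eq_prime (phi_pow3 φ) ?_
    rintro h
    obtain ⟨t, ht⟩ := Cub.ne (φ := φ)
    exact ht (by rw [h]; rfl)
  rw [← IsGalois.card_aut_eq_finrank, ← h3, ← Nat.card_zpowers, h2, Subgroup.card_top]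

include φ in
theorem card_K [Finite K] [Finite F] : Nat.card K = Nat.card F ^ 3 := by
  have := Fintype.ofFinite F
  have := Fintype.ofFinite K
  rw [Nat.card_eq_fintype_card, Nat.card_eq_fintype_card, Module.card_eq_pow_finrank (K := F) (V := K), finrank_K φ]

/-- a subspace without orthogonal vectors is everything -/
theorem eq_top_of_tr [Finite K] (W : Submodule F K) (h : ∀ s : K, (∀ w ∈ W, tr φ (s * w) = 0) → s = 0) : W = ⊤ := by
  have : Finite F := Finite.of_injective _ (algebraMap F K).injective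
  have hfd : FiniteDimensional F K := Module.finite_of_finrank_pos (by rw [finrank_K φ]; norm_num)
  by_contra hne
  obtain ⟨f, hf0, hf⟩ := Submodule.exists_le_ker_of_lt_top W (lt_top_iff_ne_top.2 hne)
  let B : K →ₗ[F] Module.Dual F K :=
    { toFun := fun s =>
        { toFun := fun t => tr φ (s * t)
          map_add' := fun t t' => by rw [mul_add, tr_add]
          map_smul' := fun c t => by rw [mul_smul_comm, tr_smul]; rfl }
      map_add' := fun s s' => by ext t; exact (congrArg _ (add_mul s s' t)).trans (tr_add φ _ _)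
      map_smul' := fun c s => by ext t; exact (congrArg _ (smul_mul_assoc c s t)).trans (tr_smul φ _ _) }
  have hB : Function.Injective B := by
    rw [injective_iff_map_eq_zero]
    intro s hs
    exact tr_nondeg φ fun t => congrArg (fun g : Module.Dual F K => g t) hs
  have hBs : Function.Surjective B :=
    (LinearMap.injective_iff_surjective_of_finrank_eq_finrank (Subspace.dual_finrank_eq).symm).1 hB
  obtain ⟨s, hs⟩ := hBs f
  have h1 : s = 0 := h s fun w hw => by
    have h2 : f w = 0 := hf hw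
    rw [← hs] at h2
    exact h2
  apply hf0
  rw [← hs, h1, map_zero]

/-- a nonzero vector orthogonal to a given one -/
theorem exists_orth (a : K) : ∃ s : K, s ≠ 0 ∧ tr φ (s * a) = 0 := by
  obtain ⟨θ, hθ⟩ := Cub.ne (φ := φ)
  by_cases ha : a = 0
  · exact ⟨1, one_ne_zero, by rw [ha, mul_zero, tr_zero]⟩
  · refine ⟨(φ θ - θ) * a⁻¹, mul_ne_zero (sub_ne_zero.2 hθ) (inv_ne_zero ha), ?_⟩
    rw [inv_mul_cancel_right₀ ha, tr_sub, tr_phi, sub_self]

end Field

/-! ### Generalities -/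

section Gen

variable {Ω : Type*} [Group Ω] {E : Subgroup Ω} {p : ℕ} {Γ : Subgroup (MulAut E)}

theorem inv_bot : Inv Γ ⊥ := ⟨bot_le, fun γ _ e he => by
  have h1 : e = 1 := Subtype.ext (Subgroup.mem_bot.1 he)
  rw [h1, map_one]
  exact one_mem _⟩

/-- the elements of `E` centralizing `E` modulo an invariant subgroup form an invariant subgroup -/
theorem inv_of_char {M N : Subgroup Ω} (hN : Inv Γ N) (hM : M ≤ E) (h : ∀ z ∈ E, z ∈ M ↔ ∀ e ∈ E, ⁅z, e⁆ ∈ N) :
    Inv Γ M := by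
  refine ⟨hM, fun γ hγ z hz => (h _ (γ z).2).2 fun e he => ?_⟩
  have h1 := (h z z.2).1 hz ((γ⁻¹ ⟨e, he⟩ : E) : Ω) (γ⁻¹ ⟨e, he⟩ : E).2
  have h2 := hN.2 γ hγ ⁅z, γ⁻¹ ⟨e, he⟩⁆ h1
  rwa [map_commutatorElement, MulAut.apply_inv_self] at h2

theorem ne_top (h : Ess ⊤ E p Γ) : E ≠ ⊤ := by
  rintro rfl
  obtain ⟨H, -, -, -, hn, -⟩ := h.spe
  apply hn
  intro α hα
  obtain ⟨g, -, hg⟩ := (Cfsg.Agent.H802.mem_autInducedBy_iff ⊤ ⊤ α).1 hα
  exact ⟨⟨g, trivial⟩, MulEquiv.ext fun x => Subtype.ext (hg x).symm⟩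

/-- the order of a subgroup from its image under a homomorphism and the kernel part -/
theorem card_eq_map {G A : Type*} [Group G] [Group A] [Finite G] (f : G →* A) (L : Subgroup G) :
    Nat.card ↥L = Nat.card ↥(L.map f) * Nat.card ↥(f.ker ⊓ L : Subgroup G) := by
  have h1 := (f.ker.subgroupOf L).index_mul_card
  rw [← h1]
  congr 1
  · exact Subgroup.relIndex_ker L f
  · rw [← Subgroup.inf_subgroupOf_right]
    exact Nat.card_congr (Subgroup.subgroupOfEquivOfLe inf_le_right).toEquiv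

theorem relIndex_mul_card {G : Type*} [Group G] {H L : Subgroup G} (h : H ≤ L) :
    H.relIndex L * Nat.card ↥H = Nat.card ↥L := by
  have h1 := (H.subgroupOf L).index_mul_card
  rwa [Nat.card_congr (Subgroup.subgroupOfEquivOfLe h).toEquiv] at h1

end Gen

/-! ### The group `Sy φ` -/

section Sy

variable {F K : Type*} [Field F] [Field K] [Algebra F K] {φ : K ≃ₐ[F] K} [Cub φ] {E : Subgroup (Sy φ)}

theorem comm_sw {x y : Sy φ} {N : Subgroup (Sy φ)} (h : ⁅x, y⁆ ∈ N) : ⁅y, x⁆ ∈ N := by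
  rw [← commutatorElement_inv]
  exact inv_mem h

theorem bot_sw {x y : Sy φ} (h : ⁅x, y⁆ = 1) : ⁅y, x⁆ = 1 := by
  rw [← commutatorElement_inv, h, inv_one]

/-- `cr` detects zero on a spanning set -/
theorem eq_zero_of_cr (hs : ∀ s : K, (∀ x ∈ E, tr φ (s * x.x1) = 0) → s = 0) {c : K} (h : ∀ x ∈ E, cr φ x.x1 c = 0) :
    c = 0 := by
  refine cr_nondeg' φ fun t => hs _ fun x hx => ?_
  rw [mul_comm, ← tr_cr, h x hx, zero_mul, tr_zero]

theorem x6_zero {e1 : Sy φ} (h1 : e1.x1 ≠ 0) {z : Sy φ} (hz : z.x1 = 0) (h : (⁅z, e1⁆).x5 = 0) : z.x6 = 0 := by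
  rw [comm_x5, hz, smul_zero, zero_sub, neg_eq_zero] at h
  exact (smul_eq_zero.1 h).resolve_right h1

end Sy

/-- **(M4a)** -/
theorem stM4a (hch : StCh.{u}) : StM4a.{u} := by
  intro F K _ _ _ _ _ φ _ p _ E Γ h hm h4 hs
  obtain ⟨e1, he1, h11⟩ := SetLike.not_le_iff_exists.1 hm.1
  obtain ⟨e6, he6, h66⟩ := SetLike.not_le_iff_exists.1 hm.2
  rw [mem_Q1] at h11
  rw [mem_Q2] at h66
  have h3 : Z3 φ ≤ E := Z3_le_Z4.trans h4
  have h2 : Z2 φ ≤ E := Z2_le_Z3.trans h3
  have i1 : Inv Γ (Z1 φ) := by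
    refine inv_of_char inv_bot (Z1_le_Z2.trans h2) fun z hz => ⟨fun hz1 e _ => ?_, fun H => ?_⟩
    · exact Subgroup.mem_bot.2 (bot_sw (comm_Z1 hz1))
    · have hz2 : z ∈ Z2 φ := by
        rw [← centralizer_Z4, mem_centralizer]
        exact fun y hy => Subgroup.mem_bot.1 (H y (h4 hy))
      refine ⟨hz2.1, hz2.2.1, hz2.2.2.1, hz2.2.2.2, ?_⟩
      have h5 := bot_sw (Subgroup.mem_bot.1 (H e6 he6))
      rw [comm_Z2 hz2] at h5
      have h6 : e6.x6 * z.x2 = 0 := congrArg Sy.x4 h5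
      exact (mul_eq_zero.1 h6).resolve_left h66
  have i2 : Inv Γ (Z2 φ) := by
    refine inv_of_char i1 h2 fun z hz => ⟨fun hz1 e _ => ?_, fun H => ?_⟩
    · exact comm_sw (by rw [comm_Z2 hz1]; exact u4_mem _)
    · have z1 : z.x1 = 0 := tr_nondeg φ fun b => by
        have := (H _ (h3 (u3_mem b))).2.2.2.2
        rw [comm_x2' (u3_mem b)] at this
        exact this
      have z6 := x6_zero h11 z1 (H _ he1).2.2.1
      have z5 : z.x5 = 0 := eq_zero_of_cr hs fun x hx => by
        have := (comm_sw (H x hx)).2.2.2.1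
        rwa [comm_x3 ⟨z1, z6⟩] at this
      refine ⟨z1, z6, z5, hs _ fun x hx => ?_⟩
      have := (comm_sw (H x hx)).2.2.2.2
      rwa [comm_x2' ⟨z1, z6, z5⟩, mul_comm] at this
  have i3 : Inv Γ (Z3 φ) := by
    refine inv_of_char i2 h3 fun z hz => ⟨fun hz1 e _ => ?_, fun H => ?_⟩
    · exact comm_sw (comm_mem_Z2 hz1)
    · have z1 : z.x1 = 0 := cr_nondeg' φ fun b => by
        have := (H _ (h4 (u5_mem b))).2.2.2
        rw [comm_x3 (u5_mem b)] at this
        exact this
      have z6 := x6_zero h11 z1 (H _ he1).2.2.1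
      refine ⟨z1, z6, eq_zero_of_cr hs fun x hx => ?_⟩
      have := (comm_sw (H x hx)).2.2.2
      rwa [comm_x3 ⟨z1, z6⟩] at this
  have i4 : Inv Γ (Z4 φ) := by
    refine inv_of_char i3 h4 fun z hz => ⟨fun hz1 e _ => ?_, fun H => ?_⟩
    · exact comm_sw (comm_mem_Z3 hz1)
    · have hc : ∀ x ∈ E, x.x6 • z.x1 = z.x6 • x.x1 := fun x hx => by
        have := (H x hx).2.2
        rw [comm_x5] at this
        exact sub_eq_zero.1 this
      have z6 : z.x6 = 0 := by
        by_contra hne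
        obtain ⟨s, hs0, hs1⟩ := exists_orth φ z.x1
        refine hs0 (hs s fun x hx => ?_)
        have h5 : x.x1 = (z.x6⁻¹ * x.x6) • z.x1 := by
          rw [mul_smul, hc x hx, smul_smul, inv_mul_cancel₀ hne, one_smul]
        rw [h5, mul_smul_comm, tr_smul, hs1, mul_zero]
      have h6 := hc e6 he6
      rw [z6, zero_smul] at h6
      exact ⟨(smul_eq_zero.1 h6).resolve_left h66, z6⟩
  refine ne_top h (top_le_iff.1 ?_)
  let M : ℕ → Subgroup (Sy φ) := fun i => match i with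
    | 0 => ⊥
    | 1 => Z1 φ
    | 2 => Z2 φ
    | 3 => Z3 φ
    | 4 => Z4 φ
    | _ => E
  refine hch h 5 M bot_le rfl ?_ ?_ ⊤ le_top ?_
  · intro i hi
    interval_cases i
    · exact inv_bot
    · exact i1
    · exact i2
    · exact i3
    · exact i4
    · exact ⟨le_rfl, fun γ _ e _ => (γ e).2⟩
  · intro i hi
    interval_cases i
    · exact bot_le
    · exact Z1_le_Z2
    · exact Z2_le_Z3
    · exact Z3_le_Z4
    · exact h4
  · intro i hi
    interval_cases i
    · exact fun a _ m hm => Subgroup.mem_bot.2 (comm_Z1 hm)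
    · exact fun a _ m hm => by
        show ⁅a, m⁆ ∈ Z1 φ
        rw [comm_Z2 hm]; exact u4_mem _
    · exact fun a _ m hm => comm_mem_Z2 hm
    · exact fun a _ m hm => comm_mem_Z3 hm
    · exact fun a _ m hm => comm_mem_Z4 a m

end Cfsg.Agent.H406.TE
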