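import Cfsg.Agent.H406.TE.M4

/-!
# S5261, part E: `Z4 ≤ E`, mixed, the `x1`-coordinates lie in a plane (helper406)

* `stM4b`, `stM4c`.
-/

set_option autoImplicit false
set_option linter.unusedSectionVars false

namespace Cfsg.Agent.H406.TE

open Cfsg Cfsg.FusionSystem Cfsg.Agent.H756.PU Cfsg.Agent.H802.TE
open Cfsg.Agent.H765.D3 Cfsg.Agent.H765.D3.Sy
open Cfsg.Agent.Hex.Defs (sh cr nm tr)
open scoped commutatorElement

universe u

section Sy

variable {F K : Type u} [Field F] [Field K] [Algebra F K] {φ : K ≃ₐ[F] K} [Cub φ]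

/-! ### Quotients -/

theorem sub_Z3 {z w : Sy φ} (hz : z ∈ Z4 φ) (hw : w ∈ Z4 φ) (h : z.x5 = w.x5) : w⁻¹ * z ∈ Z3 φ := by
  refine ⟨?_, ?_, ?_⟩
  · rw [mul_x1, inv_x1, hw.1, hz.1]; ring
  · rw [mul_x6, inv_x6, hw.2, hz.2]; ring
  · rw [mul_x5, inv_x5, hw.1, hz.2, hw.2, h]; simp

theorem sub_Z2 {z w : Sy φ} (hz : z ∈ Z3 φ) (hw : w ∈ Z3 φ) (h : z.x3 = w.x3) : w⁻¹ * z ∈ Z2 φ := by
  refine ⟨?_, ?_, ?_, ?_⟩
  · rw [mul_x1, inv_x1, hw.1, hz.1]; ring
  · rw [mul_x6, inv_x6, hw.2.1, hz.2.1]; ring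
  · rw [mul_x5, inv_x5, hw.1, hz.2.1, hw.2.1, hw.2.2, hz.2.2]; simp
  · rw [mul_x3, inv_x3, inv_x1, hw.1, hz.2.1, hw.2.1, hw.2.2, hz.2.2, h]; simp [cr]

theorem sub_Z1 {z w : Sy φ} (hz : z ∈ Z2 φ) (hw : w ∈ Z2 φ) (h : z.x2 = w.x2) : w⁻¹ * z ∈ Z1 φ := by
  refine ⟨?_, ?_, ?_, ?_, ?_⟩
  · rw [mul_x1, inv_x1, hw.1, hz.1]; ring
  · rw [mul_x6, inv_x6, hw.2.1, hz.2.1]; ring
  · rw [mul_x5, inv_x5, hw.1, hz.2.1, hw.2.1, hw.2.2.1, hz.2.2.1]; simp
  · rw [mul_x3, inv_x3, inv_x1, hw.1, hz.2.1, hw.2.1, hw.2.2.1, hz.2.2.1, hw.2.2.2, hz.2.2.2]; simp [cr]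
  · rw [mul_x2, inv_x2, inv_x1, hw.1, hz.2.1, hw.2.1, hw.2.2.1, hz.2.2.1, hw.2.2.2, hz.2.2.2, h]; simp [tr_zero, sh]

theorem mem_of_sub {N : Subgroup (Sy φ)} {z w : Sy φ} (hw : w ∈ N) (h : w⁻¹ * z ∈ N) : z ∈ N := by
  have := mul_mem hw h
  rwa [mul_inv_cancel_left] at this

theorem exists_tr_mul {a : K} (ha : a ≠ 0) (t : F) : ∃ b : K, tr φ (a * b) = t := by
  obtain ⟨s, hs⟩ := exists_tr_ne φ
  refine ⟨(t / tr φ s) • (a⁻¹ * s), ?_⟩
  rw [mul_smul_comm, mul_inv_cancel_left₀ ha, tr_smul, div_mul_cancel₀ _ hs]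

/-- the `x5`-coordinate on `Z4` -/
def k5 (φ : K ≃ₐ[F] K) [Cub φ] : ↥(Z4 φ) →* Multiplicative K where
  toFun z := Multiplicative.ofAdd z.1.x5
  map_one' := rfl
  map_mul' z w := by
    show Multiplicative.ofAdd (z.1 * w.1).x5 = _
    rw [mul_x5, w.2.2, zero_smul, add_zero]; rfl

theorem k5_surj : Function.Surjective (k5 φ) := fun c => ⟨⟨u5 φ c.toAdd, u5_mem _⟩, rfl⟩

/-- the `x3`-coordinate on `Z3` -/
def k3 (φ : K ≃ₐ[F] K) [Cub φ] : ↥(Z3 φ) →* Multiplicative K where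
  toFun z := Multiplicative.ofAdd z.1.x3
  map_one' := rfl
  map_mul' z w := by
    show Multiplicative.ofAdd (z.1 * w.1).x3 = _
    rw [mul_x3, z.2.1, w.2.2.1, zero_smul, cr_zero_left, add_zero, add_zero]; rfl

theorem k3_surj : Function.Surjective (k3 φ) := fun c => ⟨⟨u3 φ c.toAdd, u3_mem _⟩, rfl⟩

/-- `g ↦ [e, g].x5` -/
def kap (e : Sy φ) : Sy φ →* Multiplicative K where
  toFun g := Multiplicative.ofAdd (g.x6 • e.x1 - e.x6 • g.x1)
  map_one' := by simp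
  map_mul' g h := by
    rw [← ofAdd_add]
    congr 1
    rw [mul_x6, mul_x1]
    module

theorem kap_surj {e : Sy φ} (he : e.x6 ≠ 0) : Function.Surjective (kap e) := fun c => ⟨u1 φ (-(e.x6⁻¹ • c.toAdd)), by
  show Multiplicative.ofAdd ((0 : F) • e.x1 - e.x6 • (-(e.x6⁻¹ • c.toAdd))) = c
  rw [zero_smul, smul_neg, smul_smul, mul_inv_cancel₀ he, one_smul, zero_sub, neg_neg]
  rfl⟩

/-- `c ↦ cr a c` -/
noncomputable def kcr (φ : K ≃ₐ[F] K) [Cub φ] (a : K) : Multiplicative K →* Multiplicative K where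
  toFun c := Multiplicative.ofAdd (cr φ a c.toAdd)
  map_one' := by
    show Multiplicative.ofAdd (cr φ a 0) = 1
    rw [cr_zero_right]; rfl
  map_mul' c d := by
    rw [← ofAdd_add, ← cr_add_right]; rfl

/-- `t ↦ t a` -/
def kl (F : Type u) {K : Type u} [Field F] [Field K] [Algebra F K] (a : K) : Multiplicative F →* Multiplicative K where
  toFun t := Multiplicative.ofAdd (t.toAdd • a)
  map_one' := by
    show Multiplicative.ofAdd ((0 : F) • a) = 1
    rw [zero_smul]; rfl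
  map_mul' s t := by
    rw [← ofAdd_add, ← add_smul]; rfl

theorem card_kl_le [Finite F] (a : K) : Nat.card ↥(kl F a).range ≤ Nat.card F :=
  Nat.card_le_card_of_surjective (α := Multiplicative F) (kl F a).rangeRestrict (kl F a).rangeRestrict_surjective

theorem card_kl [Finite F] {a : K} (ha : a ≠ 0) : Nat.card ↥(kl F a).range = Nat.card F := by
  have h1 : Function.Injective (kl F a) := by
    rw [injective_iff_map_eq_one]
    intro t ht
    have h2 : t.toAdd • a = 0 := congrArg Multiplicative.toAdd ht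
    exact congrArg Multiplicative.ofAdd ((smul_eq_zero.1 h2).resolve_right ha)
  exact (Nat.card_congr (MonoidHom.ofInjective h1).toEquiv).symm

theorem index_kl [Finite F] [Finite K] {a : K} (ha : a ≠ 0) (φ : K ≃ₐ[F] K) [Cub φ] :
    (kl F a).range.index = Nat.card F ^ 2 := by
  have h1 := (kl F a).range.index_mul_card
  rw [card_kl ha] at h1
  have h2 : Nat.card (Multiplicative K) = Nat.card F ^ 3 := (Nat.card_congr Multiplicative.toAdd).trans (card_K φ)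
  rw [h2, pow_succ] at h1
  exact Nat.eq_of_mul_eq_mul_right Nat.card_pos h1

theorem cr_line {a c : K} (ha : a ≠ 0) (h : cr φ a c = 0) : ∃ t : F, c = t • a := by
  by_cases h2 : (2 : K) = 0
  · exact cr_eq_zero_two φ h2 ha h
  · exact ⟨0, by rw [zero_smul]; exact (cr_eq_zero φ h2 h).resolve_left ha⟩

/-- `|K : cr a K| ≤ |F|` -/
theorem index_kcr [Finite F] [Finite K] {a : K} (ha : a ≠ 0) : (kcr φ a).range.index ≤ Nat.card F := by
  have h1 := (kcr φ a).range.index_mul_card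
  have h2 := (kcr φ a).ker.index_mul_card
  rw [Subgroup.index_ker] at h2
  have h3 : (kcr φ a).range.index = Nat.card ↥(kcr φ a).ker := by
    refine Nat.eq_of_mul_eq_mul_right (Nat.card_pos (α := ↥(kcr φ a).range)) ?_
    rw [h1, mul_comm, h2]
  rw [h3]
  refine (Nat.card_le_card_of_injective (Subgroup.inclusion ?_) (Subgroup.inclusion_injective _)).trans
    (card_kl_le (F := F) a)
  intro c hc
  obtain ⟨t, ht⟩ := cr_line ha (congrArg Multiplicative.toAdd (MonoidHom.mem_ker.1 hc))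
  exact ⟨Multiplicative.ofAdd t, congrArg Multiplicative.ofAdd ht.symm⟩

end Sy

/-! ### The common part -/

section Common

variable {F K : Type u} [Field F] [Field K] [Finite F] [Finite K] [Algebra F K] {φ : K ≃ₐ[F] K} [Cub φ]
  {E : Subgroup (Sy φ)}

/-- a regular element -/
theorem exists_reg (hm : Mixed E) : ∃ e ∈ E, e.x1 ≠ 0 ∧ e.x6 ≠ 0 := by
  obtain ⟨e1, he1, h11⟩ := SetLike.not_le_iff_exists.1 hm.1
  obtain ⟨e6, he6, h66⟩ := SetLike.not_le_iff_exists.1 hm.2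
  rw [mem_Q1] at h11
  rw [mem_Q2] at h66
  by_cases h1 : e1.x6 = 0
  · by_cases h6 : e6.x1 = 0
    · refine ⟨e1 * e6, mul_mem he1 he6, ?_, ?_⟩
      · rw [mul_x1, h6, add_zero]; exact h11
      · rw [mul_x6, h1, zero_add]; exact h66
    · exact ⟨e6, he6, h6, h66⟩
  · exact ⟨e1, he1, h11, h1⟩

theorem top_le_norm (h4 : Z4 φ ≤ E) : ⊤ ≤ normalizerIn ⊤ E := by
  refine le_inf le_rfl fun x _ => Subgroup.mem_normalizer_iff.2 fun y => ?_
  have h1 : x * y * x⁻¹ = ⁅x, y⁆ * y := by rw [commutatorElement_def]; group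
  rw [h1]
  exact (Subgroup.mul_mem_cancel_left E (h4 (comm_mem_Z4 x y))).symm

variable {N : Subgroup (Sy φ)} (hN : Com E E N) (h4 : Z4 φ ≤ E) {e : Sy φ} (he : e ∈ E)

include hN h4 he in
theorem Z1_le_of (h6 : e.x6 ≠ 0) : Z1 φ ≤ N := by
  intro z hz
  have h1 : ⁅e, u2 φ (e.x6⁻¹ * z.x4)⁆ ∈ N := hN e he _ (h4 (Z3_le_Z4 (Z2_le_Z3 (u2_mem _))))
  rw [comm_Z2 (u2_mem _)] at h1
  have h2 : e.x6 * (u2 φ (e.x6⁻¹ * z.x4)).x2 = z.x4 := by
    show e.x6 * (e.x6⁻¹ * z.x4) = z.x4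
    rw [mul_inv_cancel_left₀ h6]
  rw [h2, ← eq_u4 hz] at h1
  exact h1

include hN h4 he in
theorem Z2_le_of (h1 : e.x1 ≠ 0) (h6 : e.x6 ≠ 0) : Z2 φ ≤ N := by
  intro z hz
  obtain ⟨b, hb⟩ := exists_tr_mul (φ := φ) h1 z.x2
  have hw : ⁅e, u3 φ b⁆ ∈ N := hN e he _ (h4 (Z3_le_Z4 (u3_mem _)))
  refine mem_of_sub hw (Z1_le_of hN h4 he h6 (sub_Z1 hz (comm_mem_Z2 (u3_mem _)) ?_))
  rw [comm_x2' (u3_mem _)]
  exact hb.symm

include hN h4 he in
/-- `cr e.x1 c` is an `x3`-coordinate of `N` -/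
theorem u3_cr_mem (h2 : Z2 φ ≤ N) (c : K) : u3 φ (cr φ e.x1 c) ∈ N := by
  have hw : ⁅e, u5 φ c⁆ ∈ N := hN e he _ (h4 (u5_mem _))
  refine mem_of_sub hw (h2 (sub_Z2 (u3_mem _) (comm_mem_Z3 (u5_mem _)) ?_))
  rw [comm_x3 (u5_mem _)]
  rfl

include hN h4 he in
/-- `|Z4 : Z4 ∩ N Z3| ≤ |S : E|` -/
theorem relIndex_Z4_le (h6 : e.x6 ≠ 0) : (N ⊔ Z3 φ).relIndex (Z4 φ) ≤ E.index := by
  have h1 : ((E.map (kap e)).comap (k5 φ)) ≤ (N ⊔ Z3 φ).subgroupOf (Z4 φ) := by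
    intro z hz
    obtain ⟨g, hg, hge⟩ := hz
    rw [Subgroup.mem_subgroupOf]
    have hw : ⁅e, g⁆ ∈ N := hN e he g hg
    refine mem_of_sub (le_sup_left (a := N) hw) (le_sup_right (a := N) (sub_Z3 z.2 (comm_mem_Z4 _ _) ?_))
    rw [comm_x5]
    exact (congrArg Multiplicative.toAdd hge).symm
  calc (N ⊔ Z3 φ).relIndex (Z4 φ) ≤ ((E.map (kap e)).comap (k5 φ)).index := Subgroup.index_antitone h1
    _ = (E.map (kap e)).index := Subgroup.index_comap_of_surjective _ k5_surj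
    _ ≤ E.index := Nat.le_of_dvd (Nat.pos_of_ne_zero Subgroup.FiniteIndex.index_ne_zero)
        (Subgroup.index_map_dvd _ (kap_surj h6))

include hN h4 he in
/-- `|Z3 : Z3 ∩ N| ≤ q` -/
theorem relIndex_Z3_le (h1 : e.x1 ≠ 0) (h2 : Z2 φ ≤ N) : N.relIndex (Z3 φ) ≤ Nat.card F := by
  have h3 : ((kcr φ e.x1).range.comap (k3 φ)) ≤ N.subgroupOf (Z3 φ) := by
    rintro z ⟨c, hc⟩
    rw [Subgroup.mem_subgroupOf]
    refine mem_of_sub (u3_cr_mem hN h4 he h2 c.toAdd) (h2 (sub_Z2 z.2 (u3_mem _) ?_))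
    exact (congrArg Multiplicative.toAdd hc).symm
  calc N.relIndex (Z3 φ) ≤ ((kcr φ e.x1).range.comap (k3 φ)).index := Subgroup.index_antitone h3
    _ = (kcr φ e.x1).range.index := Subgroup.index_comap_of_surjective _ k3_surj
    _ ≤ Nat.card F := index_kcr h1

include hN h4 in
/-- `Z3 ≤ N` if the `x1`-coordinates of `E` do not lie in a line -/
theorem Z3_le_of (h2 : Z2 φ ≤ N) (hl : ¬ ∃ a : K, ∀ x ∈ E, ∃ t : F, x.x1 = t • a) : Z3 φ ≤ N := by
  let W : Submodule F K := Submodule.span F {b | ∃ x ∈ E, ∃ c : K, b = cr φ x.x1 c}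
  have hW : W = ⊤ := by
    refine eq_top_of_tr φ W fun s hs => ?_
    by_contra hs0
    apply hl
    refine ⟨s, fun x hx => cr_line (φ := φ) hs0 ?_⟩
    refine tr_nondeg φ fun t => ?_
    have h3 := hs (cr φ x.x1 t) (Submodule.subset_span ⟨x, hx, t, rfl⟩)
    rw [← tr_cr] at h3
    exact h3
  have hP : ∀ b ∈ W, ∀ f : F, u3 φ (f • b) ∈ N := by
    intro b hb
    induction hb using Submodule.span_induction with
    | mem b hb =>
      obtain ⟨x, hx, c, rfl⟩ := hb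
      intro f
      rw [← cr_smul_right]
      exact u3_cr_mem hN h4 hx h2 _
    | zero =>
      intro f
      rw [smul_zero]
      exact one_mem _
    | add b b' _ _ ih ih' =>
      intro f
      rw [smul_add, u3_add]
      exact mul_mem (ih f) (ih' f)
    | smul g b _ ih =>
      intro f
      rw [smul_smul]
      exact ih _
  intro z hz
  have h3 := hP z.x3 (by rw [hW]; trivial) 1
  rw [one_smul] at h3
  exact mem_of_sub h3 (h2 (sub_Z2 hz (u3_mem _) rfl))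

end Common

/-- `Φ(E) ≤ Z4` if `Z4 ≤ E` -/
theorem phi_le_Z4 {F K : Type u} [Field F] [Field K] [Algebra F K] {φ : K ≃ₐ[F] K} [Cub φ]
    {E : Subgroup (Sy φ)} {p : ℕ} [CharP K p] [CharP F p] (h4 : Z4 φ ≤ E)
    (hmin : ∀ N : Subgroup (Sy φ), N ≤ E → Com E E N → (∀ x ∈ E, x ^ p ∈ N) → Phi E ≤ N) : Phi E ≤ Z4 φ := by
  refine hmin _ h4 (fun a _ m _ => comm_mem_Z4 a m) fun x _ => ⟨?_, ?_⟩
  · have h1 : hom1 φ (x ^ p) = (hom1 φ x) ^ p := map_pow _ _ _
    have h2 : (x ^ p).x1 = p • x.x1 := congrArg Multiplicative.toAdd h1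
    rw [h2, nsmul_eq_mul, CharP.cast_eq_zero, zero_mul]
  · have h1 : hom6 φ (x ^ p) = (hom6 φ x) ^ p := map_pow _ _ _
    have h2 : (x ^ p).x6 = p • x.x6 := congrArg Multiplicative.toAdd h1
    rw [h2, nsmul_eq_mul, CharP.cast_eq_zero, zero_mul]

theorem charP_F {F K : Type*} [Field F] [Field K] [Algebra F K] {p : ℕ} [CharP K p] : CharP F p :=
  (algebraMap F K).charP (algebraMap F K).injective p

/-- **(M4b)** -/
theorem stM4b (hphi : StPhi.{u}) (hp2c : StP2c.{u}) : StM4b.{u} := by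
  intro F K _ _ _ _ _ φ _ p _ E Γ h hm h4 ⟨s, hs0, hs⟩ hl
  obtain ⟨e, he, h1, h6⟩ := exists_reg hm
  obtain ⟨P1, P2, P3, P4, P5, P6⟩ := hphi E p h.pp (Finite.of_injective _ E.subtype_injective)
    (h.pgr.of_injective (Subgroup.inclusion le_top) (Subgroup.inclusion_injective _))
  have z2 := Z2_le_of P2 h4 he h1 h6
  have z3 := Z3_le_of P2 h4 z2 hl
  have hpi := relIndex_Z4_le P2 h4 he h6
  rw [sup_eq_left.2 z3] at hpi
  -- `b`
  obtain ⟨a', ha'⟩ : ∃ a' : K, tr φ (s * a') ≠ 0 := by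
    by_contra hcon
    push Not at hcon
    exact hs0 (tr_nondeg φ hcon)
  have hb : u1 φ a' ∉ E := fun hb => ha' (hs _ hb)
  have hq := hp2c h ⊤ (Z4 φ) (Phi E) (E ⊓ Q2 φ) (u1 φ a') (top_le_norm h4) (top_le_norm h4 trivial) hb h4
    (fun x _ y _ => comm_mem_Z4 x y) le_rfl inf_le_left (fun x hx => z3 ⟨comm_x1 _ _, comm_x6 _ _, by
      show (⁅u1 φ a', x⁆).x5 = 0
      rw [comm_x5, show x.x6 = 0 from hx.2]
      simp [u1]⟩)
  rw [Subgroup.relIndex_top_right, Subgroup.inf_relIndex_left] at hq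
  have hq2 : (Q2 φ).relIndex E ≤ Nat.card F := by
    rw [← index_Q2 (φ := φ)]
    exact Nat.le_of_dvd (Nat.pos_of_ne_zero Subgroup.FiniteIndex.index_ne_zero)
      (Subgroup.relIndex_dvd_index_of_normal _ _)
  have hi0 : 0 < E.index := Nat.pos_of_ne_zero Subgroup.FiniteIndex.index_ne_zero
  have hi : E.index ≤ Nat.card F := by
    have h5 := hq.trans (Nat.mul_le_mul hpi hq2)
    rw [_root_.sq] at h5
    exact Nat.le_of_mul_le_mul_left h5 hi0
  -- the plane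
  let τ : Sy φ →* Multiplicative F :=
    { toFun := fun x => Multiplicative.ofAdd (tr φ (s * x.x1))
      map_one' := by
        show Multiplicative.ofAdd (tr φ (s * 0)) = 1
        rw [mul_zero, tr_zero]; rfl
      map_mul' := fun x y => by
        rw [← ofAdd_add, ← tr_add, ← mul_add]; rfl }
  have hτ : Function.Surjective τ := fun t => by
    obtain ⟨b, hb⟩ := exists_tr_mul (φ := φ) hs0 t.toAdd
    exact ⟨u1 φ b, congrArg Multiplicative.ofAdd hb⟩
  have hE : E ≤ τ.ker := fun x hx => congrArg Multiplicative.ofAdd (hs x hx)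
  have hT : τ.ker.index = Nat.card F := by
    rw [Subgroup.index_ker, MonoidHom.range_eq_top.2 hτ]
    exact Subgroup.card_top
  have h5 := Subgroup.relIndex_mul_index hE
  rw [hT] at h5
  have h7 : E.relIndex τ.ker ≤ 1 := by
    rw [← h5] at hi
    exact Nat.le_of_mul_le_mul_right (by rwa [one_mul]) (Nat.card_pos (α := F))
  have h8 : τ.ker ≤ E := by
    rw [← Subgroup.relIndex_eq_one]
    exact le_antisymm h7 (Nat.pos_of_ne_zero Subgroup.FiniteIndex.index_ne_zero)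
  refine le_trans (fun x hx => ?_) h8
  rw [MonoidHom.mem_ker]
  show Multiplicative.ofAdd (tr φ (s * x.x1)) = 1
  rw [show x.x1 = 0 from hx, mul_zero, tr_zero]
  rfl

/-- **(M4c)** -/
theorem stM4c (hphi : StPhi.{u}) (hp2c : StP2c.{u}) : StM4c.{u} := by
  intro F K _ _ _ _ _ φ _ p _ E Γ h hm h4 ⟨a, ha⟩
  have : CharP F p := charP_F (K := K)
  obtain ⟨e, he, h1, h6⟩ := exists_reg hm
  obtain ⟨P1, P2, P3, P4, P5, P6⟩ := hphi E p h.pp (Finite.of_injective _ E.subtype_injective)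
    (h.pgr.of_injective (Subgroup.inclusion le_top) (Subgroup.inclusion_injective _))
  have ha0 : a ≠ 0 := by
    rintro rfl
    obtain ⟨t, ht⟩ := ha e he
    exact h1 (by rw [ht, smul_zero])
  have z2 := Z2_le_of P2 h4 he h1 h6
  have z1 := Z1_le_Z2.trans z2
  have hpi := relIndex_Z4_le P2 h4 he h6
  have hph4 : Phi E ≤ Z4 φ := phi_le_Z4 h4 P4
  have hnorm : (Phi E).Normal := ⟨fun n hn g => P6 g (top_le_norm h4 trivial).2 n hn⟩
  have hpi2 : (Phi E).relIndex (Z4 φ) ≤ Nat.card F * E.index := by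
    rw [← Subgroup.relIndex_mul_relIndex (Phi E) (Phi E ⊔ Z3 φ) (Z4 φ) le_sup_left (sup_le hph4 Z3_le_Z4),
      Subgroup.relIndex_sup_left]
    exact Nat.mul_le_mul (relIndex_Z3_le P2 h4 he h1 z2) hpi
  by_contra hcon
  obtain ⟨b, hb, hbE⟩ := SetLike.not_le_iff_exists.1 hcon
  have hq := hp2c h ⊤ (Z4 φ) (Phi E) (E ⊓ Q1 φ) b (top_le_norm h4) (top_le_norm h4 trivial) hbE h4
    (fun x _ y _ => comm_mem_Z4 x y) le_rfl inf_le_left (fun x hx => z1 (by
      show ⁅b, x⁆ ∈ Z1 φ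
      rw [comm_Q1 hb hx.2]
      exact u4_mem _))
  rw [Subgroup.relIndex_top_right, Subgroup.inf_relIndex_left] at hq
  have hE1 : E.map (hom1 φ) ≤ (kl F a).range := by
    rintro _ ⟨x, hx, rfl⟩
    obtain ⟨t, ht⟩ := ha x hx
    exact ⟨Multiplicative.ofAdd t, congrArg Multiplicative.ofAdd ht.symm⟩
  have hq1 : (Q1 φ).relIndex E ≤ Nat.card F := by
    rw [← ker_hom1, Subgroup.relIndex_ker]
    exact (Nat.card_le_card_of_injective _ (Subgroup.inclusion_injective hE1)).trans (card_kl_le a)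
  have hi0 : 0 < E.index := Nat.pos_of_ne_zero Subgroup.FiniteIndex.index_ne_zero
  have hi : E.index ≤ Nat.card F ^ 2 := by
    have h5 := hq.trans (Nat.mul_le_mul hpi2 hq1)
    refine Nat.le_of_mul_le_mul_left (a := E.index) ?_ hi0
    calc E.index * E.index = E.index ^ 2 := (_root_.sq _).symm
      _ ≤ Nat.card F * E.index * Nat.card F := h5
      _ = _ := by ring
  have hT : ((kl F a).range.comap (hom1 φ)).index = Nat.card F ^ 2 := by
    rw [Subgroup.index_comap_of_surjective _ hom1_surjective, index_kl ha0 φ]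
  have hE : E ≤ (kl F a).range.comap (hom1 φ) := Subgroup.map_le_iff_le_comap.1 hE1
  have h5 := Subgroup.relIndex_mul_index hE
  rw [hT] at h5
  have h7 : E.relIndex ((kl F a).range.comap (hom1 φ)) ≤ 1 := by
    rw [← h5] at hi
    exact Nat.le_of_mul_le_mul_right (by rwa [one_mul]) (pow_pos (Nat.card_pos (α := F)) 2)
  have h8 : (kl F a).range.comap (hom1 φ) ≤ E := by
    rw [← Subgroup.relIndex_eq_one]
    exact le_antisymm h7 (Nat.pos_of_ne_zero Subgroup.FiniteIndex.index_ne_zero)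
  apply hbE
  apply h8
  rw [Subgroup.mem_comap]
  have : hom1 φ b = 1 := congrArg Multiplicative.ofAdd (show b.x1 = 0 from hb)
  rw [this]
  exact one_mem _

end Cfsg.Agent.H406.TE
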